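import Cfsg.Agent.H723.Spor.ThMix

/-!
# `Th`: at least 31 conjugacy classes (helper904)

Elements of even order: a word in `C(a) = 2^{1+8}.A₉` with a power equal to `a`; the class in `G`
determines the class of the image in `A₉`.
-/

set_option autoImplicit false
set_option maxRecDepth 100000

namespace Cfsg.Agent.H904.SV.Th

open Subgroup Cfsg Cfsg.Agent.H713 Cfsg.Agent.H665.NoPQ
open Cfsg.Agent.Th.Base Cfsg.Agent.Th.Word Cfsg.Agent.Th.RelWords Cfsg.Agent.Th.PermTab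
  Cfsg.Agent.Th.KOracle Cfsg.Agent.Th.KPerm Cfsg.Agent.Th.NineAct Cfsg.Agent.Th.CStruct
  Cfsg.Agent.Th.COracleDef Cfsg.Agent.Th.COracleSound
open Cfsg.Agent.KFacts.Th.Mask Cfsg.Agent.KFacts.Th.Struct
open Cfsg.Agent.CpAutTh.Data Cfsg.Agent.CpAutTh.Alt Cfsg.Agent.CpAutTh.Local Cfsg.Agent.CpAutTh.ThreePerm Cfsg.Agent.CpAutTh.ThreeE
open Cfsg.Agent.CpAutTh.Mid Cfsg.Agent.H723.Spor.ThMix

universe u v

/-- words of `C` -/
def wd : Fin 21 → List ℕ :=
  ![[1], [3, 4, 3, 4], [11, 4, 10, 4, 10, 4, 3, 4], [9, 11, 4, 11, 4, 3], [6, 10, 3], [5, 10, 4, 10, 3],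
    [4, 3], [4, 10, 4, 6, 8, 11], [6, 4, 10, 4, 11], [4, 5, 10], [5, 8, 4, 3], [4, 5, 3], [8, 6, 11, 3],
    [10, 4, 7, 10, 5], [4, 6, 8, 10], [4, 7, 10], [4, 8, 3], [4, 5, 7, 3], [4, 10, 6, 5], [6, 5, 11, 4],
    [4, 5, 7, 11]]

/-- half of the orders -/
def hf : Fin 21 → ℕ := ![1, 2, 2, 3, 3, 3, 4, 4, 5, 6, 6, 6, 7, 9, 10, 12, 12, 14, 15, 18, 15]

/-- the cycle types of the images in `A₉` -/
def ty : Fin 21 → Multiset ℕ :=
  ![0, 0, {2, 2}, {3}, {3, 3}, {3, 3, 3}, {2, 2, 2, 2}, {2, 4}, {5}, {2, 2, 3}, {3, 3}, {3, 3, 3}, {7}, {9},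
    {2, 2, 5}, {2, 3, 4}, {2, 6}, {7}, {3, 5}, {9}, {3, 5}]

theorem wd_isC : ∀ i, ∀ x ∈ wd i, isC x = true := by decide +kernel

theorem wd_pow : ∀ i, corc (pw (wd i) (hf i) ++ [1]) = true := by decide +kernel

theorem wd_ne : ∀ i, ∀ p ∈ [3, 5, 7], p ∣ 2 * hf i → (pm9 (wd i)) ^ (2 * hf i / p) ≠ 1 := by decide +kernel

theorem wd_ty : ∀ i, (pm9 (wd i)).cycleType = ty i := by decide +kernel

theorem hf_pos : ∀ i, 0 < hf i := by decide +kernel

theorem hf_prime : ∀ i, ∀ p < 37, p.Prime → p ∣ 2 * hf i → p = 2 ∨ p ∈ [3, 5, 7] := by decide +kernel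

theorem hf_le : ∀ i, 2 * hf i < 37 := by decide +kernel

theorem sep : ∀ i j, hf i = hf j → ty i = ty j → i = j ∨ (i = 18 ∧ j = 20) ∨ (i = 20 ∧ j = 18) := by
  decide +kernel

/-- an odd permutation conjugating the images of the two words of order 30 -/
def sg : Equiv.Perm (Fin 9) := Equiv.swap 2 5 * Equiv.swap 5 7 * Equiv.swap 4 8

theorem sg_conj : sg * pm9 (wd 18) = pm9 (wd 20) * sg := by decide +kernel

theorem sg_sign : Equiv.Perm.sign sg = -1 := by decide +kernel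

theorem card_cent15 : Nat.card ↥(centralizer ({pm9 (wd 18)} : Set (Equiv.Perm (Fin 9)))) = 15 := by
  rw [Equiv.Perm.nat_card_centralizer, wd_ty]
  decide

theorem order15 : orderOf (pm9 (wd 18)) = 15 := by
  rw [← Equiv.Perm.lcm_cycleType, wd_ty]
  decide

/-- the centralizer of the image consists of even permutations -/
theorem even_of_comm {c : Equiv.Perm (Fin 9)} (hc : c * pm9 (wd 18) = pm9 (wd 18) * c) :
    Equiv.Perm.sign c = 1 := by
  have h1 : Subgroup.zpowers (pm9 (wd 18)) = centralizer ({pm9 (wd 18)} : Set (Equiv.Perm (Fin 9))) := by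
    refine Subgroup.eq_of_le_of_card_ge ?_ ?_
    · rw [zpowers_le, mem_centralizer_singleton_iff]
    · rw [card_cent15, Nat.card_zpowers, order15]
  have h2 : c ∈ Subgroup.zpowers (pm9 (wd 18)) := by
    rw [h1, mem_centralizer_singleton_iff]
    exact hc
  obtain ⟨k, rfl⟩ := mem_zpowers_iff.1 h2
  rw [map_zpow, show Equiv.Perm.sign (pm9 (wd 18)) = 1 by decide +kernel, one_zpow]

/-- the two images of order 15 are not conjugate under even permutations -/
theorem no_even {τ : Equiv.Perm (Fin 9)} (hτ : Equiv.Perm.sign τ = 1)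
    (h : τ * pm9 (wd 18) = pm9 (wd 20) * τ) : False := by
  have h1 : (τ⁻¹ * sg) * pm9 (wd 18) = pm9 (wd 18) * (τ⁻¹ * sg) := by
    calc (τ⁻¹ * sg) * pm9 (wd 18) = τ⁻¹ * (sg * pm9 (wd 18)) := mul_assoc _ _ _
      _ = τ⁻¹ * (pm9 (wd 20) * sg) := by rw [sg_conj]
      _ = τ⁻¹ * (pm9 (wd 20) * τ) * τ⁻¹ * sg := by group
      _ = τ⁻¹ * (τ * pm9 (wd 18)) * τ⁻¹ * sg := by rw [h]
      _ = pm9 (wd 18) * (τ⁻¹ * sg) := by group
  have h2 := even_of_comm h1
  rw [map_mul, map_inv, hτ, sg_sign] at h2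
  exact absurd h2 (by decide)

section

variable {G : Type u} [Group G] {γ : ℕ → G} (h : Ctx γ)
  {f : sub γ isC →* alternatingGroup (Fin 9)} (F : Epi γ f)
include h

theorem pow_a (i : Fin 21) : ev γ (wd i) ^ hf i = γ 1 := by
  have h2 := ev_one h (wd_pow i)
  rw [ev_append, ev_pw, ev_singleton] at h2
  rw [eq_inv_of_mul_eq_one_left h2]
  exact inv_eq_of_mul_eq_one_left h.aa

include F

theorem ord (i : Fin 21) : orderOf (ev γ (wd i)) = 2 * hf i := by
  refine ord_W h F (wd_isC i) (hf_pos i) (wd_pow i) fun p hp hd => ?_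
  have hle : p < 37 := lt_of_le_of_lt (Nat.le_of_dvd (by have := hf_pos i; omega) hd) (hf_le i)
  rcases hf_prime i p hle hp hd with h1 | h1
  · exact Or.inl h1
  · exact Or.inr (wd_ne i p h1 hd)

/-- conjugate words have conjugate images -/
theorem exists_tau {i j : Fin 21} (hij : hf i = hf j) (hc : IsConj (ev γ (wd i)) (ev γ (wd j))) :
    ∃ τ : Equiv.Perm (Fin 9), Equiv.Perm.sign τ = 1 ∧ τ * pm9 (wd i) = pm9 (wd j) * τ := by
  obtain ⟨g, hg⟩ := isConj_iff.1 hc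
  have h1 : g * γ 1 * g⁻¹ = γ 1 := by
    have h2 : (g * ev γ (wd i) * g⁻¹) ^ hf i = g * ev γ (wd i) ^ hf i * g⁻¹ := conj_pow
    rw [hg, pow_a h i, hij, pow_a h j] at h2
    exact h2.symm
  have hgC : g ∈ sub γ isC := h.mem_C.2 (mul_inv_eq_iff_eq_mul.1 h1)
  refine ⟨f ⟨g, hgC⟩, Equiv.Perm.mem_alternatingGroup.1 (f ⟨g, hgC⟩).2, ?_⟩
  rw [← F.word _ (wd_isC i), ← F.word _ (wd_isC j), ← Subgroup.coe_mul, ← Subgroup.coe_mul, ← map_mul,
    ← map_mul]
  congr 2
  exact Subtype.ext (mul_inv_eq_iff_eq_mul.1 hg)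

theorem eq_of_conj {i j : Fin 21} (hc : IsConj (ev γ (wd i)) (ev γ (wd j))) : i = j := by
  have h1 := H419.Count.orderOf_eq_of_isConj hc
  rw [ord h F, ord h F] at h1
  have h2 : hf i = hf j := by omega
  obtain ⟨τ, hτ, hτc⟩ := exists_tau h F h2 hc
  have h3 : ty i = ty j := by
    rw [← wd_ty, ← wd_ty, ← Equiv.Perm.cycleType_conj (σ := pm9 (wd i)) (τ := τ), hτc, mul_inv_cancel_right]
  rcases sep i j h2 h3 with h4 | ⟨rfl, rfl⟩ | ⟨rfl, rfl⟩
  · exact h4
  · exact (no_even hτ hτc).elim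
  · refine (no_even (τ := τ⁻¹) (by rw [map_inv, hτ, inv_one]) ?_).elim
    rw [eq_mul_inv_iff_mul_eq, mul_assoc, inv_mul_eq_iff_eq_mul, ← hτc]

/-- **Counting**: 21 classes of even order and further orders. -/
theorem card_ge [Finite G] (s : Finset ℕ) (hs : ∀ n ∈ s, Odd n) (hsg : ∀ n ∈ s, ∃ g : G, orderOf g = n) :
    21 + s.card ≤ Nat.card (ConjClasses G) := by
  classical
  choose w hw using fun n : s => hsg n.1 n.2
  have h1 := H419.Count.card_le_of_pairwise (ι := Fin 21 ⊕ s) (Sum.elim (fun i => ev γ (wd i)) w) (fun i j hij => by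
    rcases i with i | i <;> rcases j with j | j
    · exact congrArg _ (eq_of_conj h F hij)
    · exfalso
      have h2 := H419.Count.orderOf_eq_of_isConj hij
      simp only [Sum.elim_inl, Sum.elim_inr, hw, ord h F] at h2
      have h3 := hs j.1 j.2
      rw [← h2] at h3
      exact (Nat.not_odd_iff_even.2 (even_two_mul _)) h3
    · exfalso
      have h2 := H419.Count.orderOf_eq_of_isConj hij
      simp only [Sum.elim_inl, Sum.elim_inr, hw, ord h F] at h2
      have h3 := hs i.1 i.2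
      rw [h2] at h3
      exact (Nat.not_odd_iff_even.2 (even_two_mul _)) h3
    · have h2 := H419.Count.orderOf_eq_of_isConj hij
      simp only [Sum.elim_inr, hw] at h2
      exact congrArg _ (Subtype.ext h2))
  rwa [Nat.card_sum, Nat.card_eq_fintype_card, Fintype.card_fin, Nat.card_eq_fintype_card, Fintype.card_coe] at h1

end

end Cfsg.Agent.H904.SV.Th
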