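import Cfsg.Agent.H904.SV.ThClasses
import Cfsg.Agent.H387.VO.Main

/-!
# `Th`: vanishing elements of orders 20, 30 and 21, 28 (helper904, S4987)

`k(Th) ≥ 31`, the centralizers of elements of orders 30, 28, 21 have order at most 30, 28, 21.
-/

set_option autoImplicit false
set_option maxRecDepth 100000

namespace Cfsg.Agent.H904.SV.Th

open Subgroup Cfsg Cfsg.Agent.H713 Cfsg.Agent.H665.NoPQ
open Cfsg.Agent.Th.Base Cfsg.Agent.Th.Word Cfsg.Agent.Th.RelWords Cfsg.Agent.Th.PermTab
  Cfsg.Agent.Th.KOracle Cfsg.Agent.Th.KPerm Cfsg.Agent.Th.NineAct Cfsg.Agent.Th.CStruct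
  Cfsg.Agent.Th.COracleDef Cfsg.Agent.Th.COracleSound
open Cfsg.Agent.KFacts.Th.Mask Cfsg.Agent.KFacts.Th.Struct
open Cfsg.Agent.CpAutTh.Data Cfsg.Agent.CpAutTh.Alt Cfsg.Agent.CpAutTh.Local Cfsg.Agent.CpAutTh.ThreePerm Cfsg.Agent.CpAutTh.ThreeE
open Cfsg.Agent.CpAutTh.Mid Cfsg.Agent.H723.Spor.ThMix

universe u v

/-- the conjugation by the word `wd 18` -/
def T30 : Tab :=
  [([0,1,4,8],false), ([0],false), ([0,3,6,7],false), ([0,4,5,8],false), ([0,2,3,6],true), ([0,1,5,8],true),
   ([0,2,6,7],true), ([0,2,3,7],false), ([0,1,4,5],true)]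

theorem chk30 : chk (wd 18) T30 = true := by decide +kernel

theorem fix30 : allB 512 (fun m => or (par m) (or (Bool.not (Nat.beq (Lf (Mt T30) 9 m) m))
    (([0] : List ℕ).any fun k => Nat.beq k m))) = true := by decide +kernel

section

variable {G : Type u} [Group G] {γ : ℕ → G} (h : Ctx γ)
  {f : sub γ isC →* alternatingGroup (Fin 9)} (F : Epi γ f)
include h F

/-- the centralizer of the element of order 30 -/
theorem card30 : Nat.card ↥(centralizer ({ev γ (wd 18)} : Set G)) ≤ 30 := by
  classical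
  have hfin := h.fin
  set x := ev γ (wd 18) with hx
  have hKa : ∀ k ∈ centralizer ({x} : Set G), k * γ 1 = γ 1 * k := by
    intro k hk
    have h1 : Commute k x := mem_centralizer_singleton_iff.1 hk
    have h2 := h1.pow_right (hf 18)
    rw [hx, pow_a h] at h2
    exact h2
  have hle : centralizer ({x} : Set G) ≤ sub γ isC := fun k hk => h.mem_C.2 (hKa k hk)
  let φ : ↥(centralizer ({x} : Set G)) →* alternatingGroup (Fin 9) := f.comp (Subgroup.inclusion hle)
  have hker : ∀ k : ↥(centralizer ({x} : Set G)), φ k = 1 → (k : G) = 1 ∨ (k : G) = γ 1 := by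
    intro k hk
    have h1 : (k : G) ∈ Q0 γ := (mem_ker F (x := Subgroup.inclusion hle k)).1 (MonoidHom.mem_ker.2 hk)
    exact inv_ker h chk30 fix30 h1 (mem_centralizer_singleton_iff.1 k.2)
  have hker2 : Nat.card ↥φ.ker ≤ 2 := by
    have h1 : Function.Injective fun k : ↥φ.ker => (if ((k : ↥(centralizer ({x} : Set G))) : G) = 1 then (0 : Fin 2) else 1) := by
      intro k l hkl
      apply Subtype.ext
      apply Subtype.ext
      have hk := hker k k.2
      have hl := hker l l.2
      simp only at hkl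
      rcases hk with hk | hk <;> rcases hl with hl | hl
      · rw [hk, hl]
      · rw [hk, hl, if_pos rfl, if_neg h.a1] at hkl
        exact absurd hkl (by decide)
      · rw [hk, hl, if_pos rfl, if_neg h.a1] at hkl
        exact absurd hkl (by decide)
      · rw [hk, hl]
    have h2 := Nat.card_le_card_of_injective _ h1
    rwa [Nat.card_fin] at h2
  have hrange : Nat.card ↥φ.range ≤ 15 := by
    let ψ : ↥φ.range → ↥(centralizer ({pm9 (wd 18)} : Set (Equiv.Perm (Fin 9)))) := fun y =>
      ⟨((y : alternatingGroup (Fin 9)) : Equiv.Perm (Fin 9)), by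
        obtain ⟨k, hk⟩ := y.2
        rw [mem_centralizer_singleton_iff, ← hk, ← F.word _ (wd_isC 18)]
        change ((f (Subgroup.inclusion hle k) : alternatingGroup (Fin 9)) : Equiv.Perm (Fin 9)) * _ = _ *
          ((f (Subgroup.inclusion hle k) : alternatingGroup (Fin 9)) : Equiv.Perm (Fin 9))
        rw [← Subgroup.coe_mul, ← Subgroup.coe_mul, ← map_mul, ← map_mul]
        congr 2
        exact Subtype.ext (mem_centralizer_singleton_iff.1 k.2)⟩
    have h1 : Function.Injective ψ := by
      intro y z hyz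
      have h2 : ((y : alternatingGroup (Fin 9)) : Equiv.Perm (Fin 9)) = ((z : alternatingGroup (Fin 9)) : Equiv.Perm (Fin 9)) :=
        congrArg (fun w : ↥(centralizer ({pm9 (wd 18)} : Set (Equiv.Perm (Fin 9)))) => (w : Equiv.Perm (Fin 9))) hyz
      exact Subtype.ext (Subtype.ext h2)
    have h2 := Nat.card_le_card_of_injective ψ h1
    rwa [card_cent15] at h2
  have h3 := Subgroup.card_mul_index φ.ker
  rw [Subgroup.index_ker] at h3
  rw [← h3]
  exact (Nat.mul_le_mul hker2 hrange).trans (by norm_num)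

end

/-! ### The centralizers of the elements of orders 21 and 28 -/

section

open Cfsg.Agent.ThType.CentSeven Cfsg.Agent.ThType.CentSevenGL

/-- upper bound for centralizers in `GL₃(2)` -/
theorem card_G3_le (P : M3) {g : G3} (hg : (g : M3) = P) {n : ℕ}
    (hn : Fintype.card {A : M3 // d3 A ≠ 0 ∧ A * P = P * A} = n) :
    Nat.card ↥(centralizer ({g} : Set G3)) ≤ n := by
  rw [← hn, ← Nat.card_eq_fintype_card]
  refine Nat.card_le_card_of_injective (fun x => ⟨((x : G3) : M3), d3_ne _, ?_⟩) ?_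
  · have h1 := Subgroup.mem_centralizer_singleton_iff.1 x.2
    rw [← hg]
    exact congrArg Units.val h1
  · intro x y hxy
    exact Subtype.ext (Units.ext (congrArg Subtype.val hxy))

def mA : M3 := !![0,1,0;0,0,1;1,0,0]
def mB : M3 := !![0,0,1;1,0,0;0,1,0]
def gA : G3 := ⟨mA, mB, by decide +kernel, by decide +kernel⟩
def mC : M3 := !![1,1,0;0,1,1;0,0,1]
def mD : M3 := !![1,1,1;0,1,1;0,0,1]
def gC : G3 := ⟨mC, mD, by decide +kernel, by decide +kernel⟩

theorem cardA : Nat.card ↥(centralizer ({gA} : Set G3)) ≤ 3 :=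
  card_G3_le mA rfl (by decide +kernel)

theorem cardC : Nat.card ↥(centralizer ({gC} : Set G3)) ≤ 4 :=
  card_G3_le mC rfl (by decide +kernel)

theorem orderA : orderOf gA = 3 := by
  have : Fact (Nat.Prime 3) := ⟨Nat.prime_three⟩
  refine orderOf_eq_prime ?_ ?_
  · ext1
    show mA ^ 3 = 1
    decide +kernel
  · intro e
    have h1 : mA = 1 := congrArg Units.val e
    revert h1
    decide +kernel

theorem mC2 : mC ^ 2 ^ 1 ≠ 1 := by decide +kernel
theorem mC4 : mC ^ 2 ^ (1 + 1) = 1 := by decide +kernel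

theorem orderC : orderOf gC = 4 := by
  have : Fact (Nat.Prime 2) := ⟨Nat.prime_two⟩
  refine orderOf_eq_prime_pow (p := 2) (n := 1) ?_ ?_
  · intro e
    have h1 : mC ^ 2 ^ 1 = 1 := congrArg Units.val e
    exact absurd h1 mC2
  · ext1
    exact mC4

variable {G : Type u} [Group G] {s : G} {F : G3 →* G}

/-- the centralizer of `s * F g` -/
theorem card_sF (hs : orderOf s = 7) (hinj : Function.Injective F) (hFs : ∀ g, F g * s = s * F g)
    (hall : ∀ x, x * s = s * x → ∃ (i : ℤ) (g : G3), x = s ^ i * F g) {g : G3} {m c : ℕ}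
    (hm : orderOf g = m) (h7 : m.Coprime 7) (hc : Nat.card ↥(centralizer ({g} : Set G3)) ≤ c) :
    orderOf (s * F g) = 7 * m ∧ Nat.card ↥(centralizer ({s * F g} : Set G)) ≤ 7 * c := by
  have hcm : Commute s (F g) := (hFs g).symm
  have hog : orderOf (F g) = m := by rw [orderOf_injective F hinj, hm]
  have hord : orderOf (s * F g) = 7 * m := by
    rw [hcm.orderOf_mul_eq_mul_orderOf_of_coprime (by rw [hs, hog]; exact h7.symm), hs, hog]
  refine ⟨hord, ?_⟩
  -- `s` and `F g` are powers of the product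
  have key : ∀ y : G, Commute y (s * F g) → Commute y s ∧ Commute y (F g) := by
    intro y hy
    have h1 : Commute y ((s * F g) ^ m) := hy.pow_right m
    rw [hcm.mul_pow, show F g ^ m = 1 by rw [← hog, pow_orderOf_eq_one], mul_one] at h1
    obtain ⟨k, hk⟩ := exists_pow_eq_self_of_coprime (x := s) (n := m) (by rw [hs]; exact h7)
    have h2 : Commute y s := by
      have h3 := h1.pow_right k
      rwa [hk] at h3
    refine ⟨h2, ?_⟩
    have h3 := h2.inv_right.mul_right hy
    rwa [inv_mul_cancel_left] at h3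
  have hsC : ∀ (i : ℕ) (g' : ↥(centralizer ({g} : Set G3))), s ^ i * F g' ∈ centralizer ({s * F g} : Set G) := by
    intro i g'
    have h1 : Commute (F (g' : G3)) (F g) := by
      have h2 := mem_centralizer_singleton_iff.1 g'.2
      show F (g' : G3) * F g = F g * F (g' : G3)
      rw [← map_mul, h2, map_mul]
    have h2 : Commute (F (g' : G3)) s := hFs _
    exact mem_centralizer_singleton_iff.2
      ((((Commute.refl s).pow_left i).mul_left h2).mul_right (((hcm.pow_left i)).mul_left h1)).eq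
  have h1 : Function.Surjective (fun z : Fin 7 × ↥(centralizer ({g} : Set G3)) =>
      (⟨s ^ (z.1 : ℕ) * F z.2, hsC z.1 z.2⟩ : ↥(centralizer ({s * F g} : Set G)))) := by
    rintro ⟨y, hy⟩
    obtain ⟨hys, hyF⟩ := key y (mem_centralizer_singleton_iff.1 hy)
    obtain ⟨i, g', rfl⟩ := hall y hys.eq
    have hi0 : 0 ≤ i % 7 := Int.emod_nonneg _ (by norm_num)
    have hi7 : i % 7 < 7 := Int.emod_lt_of_pos _ (by norm_num)
    have hsi : s ^ i = s ^ (i % 7).toNat := by
      rw [← zpow_natCast, Int.toNat_of_nonneg hi0]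
      conv_lhs => rw [← zpow_mod_orderOf, hs]
      rfl
    refine ⟨(⟨(i % 7).toNat, by omega⟩, ⟨g', ?_⟩), ?_⟩
    · rw [mem_centralizer_singleton_iff]
      apply hinj
      rw [map_mul, map_mul]
      have h2 : Commute (s ^ i) (F g) := hcm.zpow_left i
      have h3 : Commute ((s ^ i)⁻¹ * (s ^ i * F g')) (F g) := h2.inv_left.mul_left hyF
      rw [inv_mul_cancel_left] at h3
      exact h3.eq
    · exact Subtype.ext (by simp only [hsi])
  have h2 := Nat.card_le_card_of_surjective _ h1
  rw [Nat.card_prod, Nat.card_fin] at h2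
  exact h2.trans (Nat.mul_le_mul_left 7 hc)

end

/-! ### The row -/

open Cfsg.Agent.H723.Spor.Th

theorem fin_th : Finite Spor.Th := Nat.finite_of_card_ne_zero (by rw [card_th]; norm_num)

theorem exists_F : ∃ (s : Spor.Th) (F : Cfsg.Agent.ThType.CentSevenGL.G3 →* Spor.Th), orderOf s = 7 ∧
    Function.Injective F ∧ (∀ g, F g * s = s * F g) ∧
    (∀ x, x * s = s * x → ∃ (i : ℤ) (g : Cfsg.Agent.ThType.CentSevenGL.G3), x = s ^ i * F g) := by
  have hfin := fin_th
  have : Fact (Nat.Prime 7) := ⟨by norm_num⟩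
  have h := setup Cfsg.Agent.KFacts.Th.Main.ctx hone
  set s := Cfsg.Agent.Th.IndexUpper.gTh 6 with hs
  have h7 : orderOf s = 7 := h.s7
  have h49 : 49 ∣ Nat.card (Subgroup.centralizer ({s} : Set Spor.Th)) := by
    obtain ⟨P, hP⟩ := (IsPGroup.of_card (n := 1) (by rw [Nat.card_zpowers, h7, pow_one]) :
      IsPGroup 7 (Subgroup.zpowers s)).exists_le_sylow
    have hPc : Nat.card (P : Subgroup Spor.Th) = 7 ^ 2 := by
      rw [P.card_eq_multiplicity, card_th]
      congr 1
      rw [show (90745943887872000 : ℕ) = 7 ^ 2 * 1851958038528000 by norm_num,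
        Nat.factorization_mul (by norm_num) (by norm_num), Nat.Prime.factorization_pow (by norm_num)]
      simp [Nat.factorization_eq_zero_of_not_dvd (show ¬ 7 ∣ 1851958038528000 by decide)]
    have hcm : IsMulCommutative (P : Subgroup Spor.Th) := IsPGroup.isMulCommutative_of_card_eq_prime_sq hPc
    have hle : (P : Subgroup Spor.Th) ≤ Subgroup.centralizer ({s} : Set Spor.Th) := by
      intro x hx
      rw [Subgroup.mem_centralizer_singleton_iff]
      have h1 := hcm.is_comm.comm (⟨x, hx⟩ : (P : Subgroup Spor.Th)) ⟨s, hP (Subgroup.mem_zpowers s)⟩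
      exact congrArg Subtype.val h1
    have h1 := Subgroup.card_dvd_of_le hle
    rw [hPc] at h1
    norm_num at h1
    exact h1
  have h168 : Nat.card (Subgroup.centralizer ({s} : Set Spor.Th)) = 7 * 168 := by
    rcases h.card_cases with h1 | h1
    · exact h1
    · rw [h1] at h49
      norm_num at h49
  obtain ⟨F, h1, h2, -, -, -, h3, -, -⟩ := h.main h168
  exact ⟨s, F, h7, h1, h2, h3⟩

/-- `k(Th) ≥ 31` -/
theorem k_ge : 31 ≤ Nat.card (ConjClasses Spor.Th) := by
  have hfin := fin_th
  have h := Cfsg.Agent.KFacts.Th.Main.ctx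
  obtain ⟨f, F⟩ := exists_epi h
  have h30 : ∀ n, n ∣ 30 → ∃ g : Spor.Th, orderOf g = n := fun n hn =>
    H419.Count.exists_order_of_dvd (x := ev Cfsg.Agent.Th.IndexUpper.gTh (wd 18)) (by
      rw [ord h F]; exact hn.trans (by decide))
  have h18 : ∀ n, n ∣ 18 → ∃ g : Spor.Th, orderOf g = n := fun n hn =>
    H419.Count.exists_order_of_dvd (x := ev Cfsg.Agent.Th.IndexUpper.gTh (wd 13)) (by
      rw [ord h F]; exact hn.trans (by decide))
  have hp : ∀ p : ℕ, p.Prime → p ∣ 90745943887872000 → ∃ g : Spor.Th, orderOf g = p := by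
    intro p hp hd
    have : Fact p.Prime := ⟨hp⟩
    exact exists_prime_orderOf_dvd_card' p (by rw [card_th]; exact hd)
  have h21 : ∃ g : Spor.Th, orderOf g = 21 := by
    obtain ⟨s, F, hs, hinj, hFs, hall⟩ := exists_F
    exact ⟨_, (card_sF hs hinj hFs hall orderA (by norm_num) cardA).1⟩
  have key := card_ge h F {1, 3, 5, 7, 9, 13, 15, 19, 31, 21} (by decide) (by
    intro n hn
    simp only [Finset.mem_insert, Finset.mem_singleton] at hn
    rcases hn with rfl | rfl | rfl | rfl | rfl | rfl | rfl | rfl | rfl | rfl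
    · exact h30 _ (by norm_num)
    · exact h30 _ (by norm_num)
    · exact h30 _ (by norm_num)
    · exact hp _ (by norm_num) (by norm_num)
    · exact h18 _ (by norm_num)
    · exact hp _ (by norm_num) (by norm_num)
    · exact h30 _ (by norm_num)
    · exact hp _ (by norm_num) (by norm_num)
    · exact hp _ (by norm_num) (by norm_num)
    · exact h21)
  exact key

theorem vz_of_lt {x : Spor.Th} (hx : Nat.card ↥(centralizer ({x} : Set Spor.Th)) < 31) : VZ Spor.Th x := by
  have hfin := fin_th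
  exact H419.Count.vz_of_inner (H419.Count.van_of_card_lt (hx.trans_le k_ge))
    (H419.Row.inner_of_out Cfsg.Agent.S2083.result)

theorem two_five : H387.VO.TwoVan 5 Spor.Th := by
  have h := Cfsg.Agent.KFacts.Th.Main.ctx
  obtain ⟨f, F⟩ := exists_epi h
  refine H387.VO.TwoVan.of_order (x := ev Cfsg.Agent.Th.IndexUpper.gTh W20)
    (y := ev Cfsg.Agent.Th.IndexUpper.gTh (wd 18)) ?_ ?_ (vz_of_lt ((card_le h F).trans_lt (by norm_num)))
    (vz_of_lt ((card30 h F).trans_lt (by norm_num))) ?_
  · rw [o20 h F]; norm_num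
  · rw [ord h F]; decide
  · rw [o20 h F, ord h F]; decide

theorem two_seven : H387.VO.TwoVan 7 Spor.Th := by
  have hfin := fin_th
  obtain ⟨s, F, hs, hinj, hFs, hall⟩ := exists_F
  obtain ⟨a1, a2⟩ := card_sF hs hinj hFs hall orderA (by norm_num) cardA
  obtain ⟨c1, c2⟩ := card_sF hs hinj hFs hall orderC (by norm_num) cardC
  refine H387.VO.TwoVan.of_order (x := s * F gA) (y := s * F gC) ?_ ?_
    (vz_of_lt (a2.trans_lt (by norm_num))) (vz_of_lt (c2.trans_lt (by norm_num))) ?_
  · rw [a1]; norm_num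
  · rw [c1]; norm_num
  · rw [a1, c1]; norm_num

/-- **S4987, row `Th`, p = 5.** -/
theorem two_th_five {K : Type u} [Group K] (h : Spor.IsoTh K) : H387.VO.TwoVan 5 K := by
  obtain ⟨e⟩ := h
  exact two_five.mulEquiv e.symm

/-- **S4987, row `Th`, p = 7.** -/
theorem two_th_seven {K : Type u} [Group K] (h : Spor.IsoTh K) : H387.VO.TwoVan 7 K := by
  obtain ⟨e⟩ := h
  exact two_seven.mulEquiv e.symm

end Cfsg.Agent.H904.SV.Th
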